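import Groth.Agent.L12.LineLift.IdealKer
import Groth.Agent.L22.CurveDeg.Devissage
import Groth.Agent.L22.Reg.PnGen
import Groth.Agent.L22.Reg.Chi
import Groth.Agent.L16.Rees.ClosedFibre
import Groth.Agent.L16.Exist.AdicGen
import Groth.Agent.L03.Euler.Push
import Groth.Agent.L03.VBPn.CokerSimple
import Groth.Agent.L21.RR.IdealTwist
import Groth.Agent.L21.CurveDual.Duality
import Groth.Agent.L16.ProjSpace.Sections
import Groth.Agent.L18.LefTwists
import Groth.Agent.L20.PnPic.Main

/-!
# Invertible modules on ribbons over the projective line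
-/

set_option autoImplicit false
set_option linter.style.haveILetI false
set_option linter.unusedSectionVars false
set_option backward.isDefEq.respectTransparency false
set_option backward.isDefEq.respectTransparency.types false

universe u

open CategoryTheory CategoryTheory.Limits AlgebraicGeometry TopologicalSpace Opposite
open Groth.L00.Tensor (tensorIso tensorUnitRight tensorUnitLeft)
open Groth.L21.RR (st one twι twπ twι_twπ shortExact_tw)
open Groth.L16.CohLinear (overLin)

noncomputable section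

namespace Groth.L22.Ribbon

/-- A `k`-linear equivalence of cohomology from an isomorphism of modules. -/
def hhEquiv (k : Type u) [Field k] {X : Scheme.{u}} [X.Over (Spec (CommRingCat.of k))] {M N : X.Modules} (e : M ≅ N)
    (q : ℕ) : Coh.HH X M q ≃ₗ[k] Coh.HH X N q :=
  LinearEquiv.ofLinear (overLin k (Groth.L16.CohLinear.hmap e.hom q)) (overLin k (Groth.L16.CohLinear.hmap e.inv q))
    (LinearMap.ext fun x => (Groth.L16.CohLinear.hmap_comp e.inv e.hom q x).symm.trans
      (by rw [e.inv_hom_id]; exact Groth.L16.CohLinear.hmap_id q x))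
    (LinearMap.ext fun x => (Groth.L16.CohLinear.hmap_comp e.hom e.inv q x).symm.trans
      (by rw [e.hom_inv_id]; exact Groth.L16.CohLinear.hmap_id q x))

section Line

variable {k : Type u} [Field k]

/-- The dimension of the sections of a twist on the line. -/
theorem line_h0 {d : ℤ} (hd : -1 ≤ d) :
    (Module.finrank k (Coh.HH (CohB1.ProjSpace 1 k) (Twist.twistProjSpace 1 k d) 0) : ℤ) = d + 1 := by
  haveI := Groth.L16.ProjSpace.isProper_toSpec 1 k
  haveI : IsProper ((CohB1.ProjSpace 1 k) ↘ Spec (CommRingCat.of k)) := by assumption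
  have h := Groth.L22.Reg.euler_O (k := k) (n := 1) one_pos d
  rw [Groth.L03.Euler.euler_eq_sum (k := k) (N := 2) fun q hq =>
    Groth.L16.ProjSpace.subsingleton_HH_twist 1 k d q (by omega) (by omega), Finset.sum_range_succ, Finset.sum_range_one] at h
  haveI := Groth.L16.ProjSpace.subsingleton_HH_twist 1 k d 1 (by omega) (by omega)
  rw [Module.finrank_zero_of_subsingleton (M := Coh.HH (CohB1.ProjSpace 1 k) (Twist.twistProjSpace 1 k d) 1)] at h
  simpa using h

/-- The dimension of the first cohomology of a twist on the line. -/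
theorem line_h1 {d : ℤ} (hd : d ≤ -1) :
    (Module.finrank k (Coh.HH (CohB1.ProjSpace 1 k) (Twist.twistProjSpace 1 k d) 1) : ℤ) = -d - 1 := by
  haveI := Groth.L16.ProjSpace.isProper_toSpec 1 k
  haveI : IsProper ((CohB1.ProjSpace 1 k) ↘ Spec (CommRingCat.of k)) := by assumption
  have h := Groth.L22.Reg.euler_O (k := k) (n := 1) one_pos d
  rw [Groth.L03.Euler.euler_eq_sum (k := k) (N := 2) fun q hq =>
    Groth.L16.ProjSpace.subsingleton_HH_twist 1 k d q (by omega) (by omega), Finset.sum_range_succ, Finset.sum_range_one] at h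
  haveI := Groth.L16.ProjSpace.subsingleton_HH_twist 1 k d 0 (by omega) (by omega)
  rw [Module.finrank_zero_of_subsingleton (M := Coh.HH (CohB1.ProjSpace 1 k) (Twist.twistProjSpace 1 k d) 0)] at h
  simp at h
  omega

/-- Twists of nonnegative degree are globally generated. -/
theorem line_gg {d : ℤ} (hd : 0 ≤ d) : Curv2.IsGloballyGenerated (Twist.twistProjSpace 1 k d) := by
  have hF : Coh.IsCoh (Coh.structureModule (CohB1.ProjSpace 1 k)) := by
    haveI := Groth.L16.ProjSpace.isProper_toSpec 1 k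
    haveI : IsLocallyNoetherian (CohB1.ProjSpace 1 k) :=
      LocallyOfFiniteType.isLocallyNoetherian (CohB1.ProjSpace.toSpec 1 k)
    exact Groth.L16.CohClosedPush.isCoh_structure
  have hreg : Groth.L22.Reg.Regular (Coh.structureModule (CohB1.ProjSpace 1 k)) 0 := fun q hq =>
    (hhEquiv k (X := CohB1.ProjSpace 1 k) (tensorUnitLeft (Twist.twistProjSpace 1 k (0 - (q : ℤ)))) q).toEquiv.subsingleton_congr.2
      (Groth.L16.ProjSpace.subsingleton_HH_twist 1 k _ q (by omega) (by omega))
  exact Groth.L18.Ample.isGloballyGenerated_of_iso (tensorUnitLeft _) (hreg.isGloballyGenerated hF hd)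

/-- No maps to a twist of smaller degree. -/
theorem line_hom_zero {a b : ℤ} (h : b < a) (φ : Twist.twistProjSpace 1 k a ⟶ Twist.twistProjSpace 1 k b) : φ = 0 := by
  obtain ⟨c⟩ := Groth.L22.Reg.nonempty_O_add (n := 1) (R := k) (show -a + a = 0 by ring)
  obtain ⟨c'⟩ := Groth.L22.Reg.nonempty_O_add (n := 1) (R := k) (show -a + b = b - a by ring)
  obtain ⟨z⟩ := Groth.L22.Reg.nonempty_O_zero 1 k
  haveI := Groth.L16.Existence.isEquivalence (Twist.twistProjSpace 1 k (-a)) (Twist.twistProjSpace 1 k a) (c ≪≫ z)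
  haveI : Subsingleton (Coh.HH (CohB1.ProjSpace 1 k) (Twist.twistProjSpace 1 k (b - a)) 0) :=
    Groth.L16.ProjSpace.subsingleton_HH_twist 1 k (b - a) 0 (by omega) (by omega)
  let T := Groth.L00.Tensor.tensorLeftF (Twist.twistProjSpace 1 k (-a))
  have h0 : (c ≪≫ z).inv ≫ T.map φ ≫ c'.hom = 0 := Groth.L18.LefTwists.hom_eq_zero _
  refine T.map_injective ?_
  rw [Functor.map_zero, ← cancel_epi (c ≪≫ z).inv, ← cancel_mono c'.hom, Category.assoc, h0, comp_zero, zero_comp]

end Line

variable {k : Type u} [Field k] {C : Scheme.{u}} [C.Over (Spec (CommRingCat.of k))]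
  [IsProper (C ↘ (Spec (CommRingCat.of k)))]
  (I : C.IdealSheafData) (hI : I ^ 2 = ⊥) (e : I.subscheme ≅ CohB1.ProjSpace 1 k)
  (he : e.hom ≫ CohB1.ProjSpace.toSpec 1 k = I.subschemeι ≫ (C ↘ (Spec (CommRingCat.of k))))
  {g : ℕ} (hc : Nonempty ((Scheme.Modules.pullback I.subschemeι).obj (ClSub.idealMod I) ≅
      (Scheme.Modules.pullback e.hom).obj (Twist.twistProjSpace 1 k (-((g : ℤ) + 1)))))

/-- The reduced line inside the ribbon. -/
abbrev line : CohB1.ProjSpace 1 k ⟶ C := e.inv ≫ I.subschemeι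

include he in
theorem line_toSpec : line I e ≫ (C ↘ Spec (CommRingCat.of k)) = CohB1.ProjSpace.toSpec 1 k := by
  rw [Category.assoc, ← he, e.inv_hom_id_assoc]

theorem nonempty_quotMod_iso :
    Nonempty (ClSub.quotMod I ≅ (Scheme.Modules.pushforward (line I e)).obj (Coh.structureModule (CohB1.ProjSpace 1 k))) := by
  obtain ⟨ω⟩ := Groth.L16.Rees.ClosedFibre.nonempty_push_structure e.inv
  exact ⟨(Scheme.Modules.pushforward I.subschemeι).mapIso ω ≪≫
    (Scheme.Modules.pushforwardComp e.inv I.subschemeι).app _⟩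

include hc in
theorem nonempty_pullback_idealMod :
    Nonempty ((Scheme.Modules.pullback (line I e)).obj (ClSub.idealMod I) ≅
      Twist.twistProjSpace 1 k (-((g : ℤ) + 1))) := by
  obtain ⟨a⟩ := hc
  exact ⟨(Scheme.Modules.pullbackComp e.inv I.subschemeι).symm.app _ ≪≫ (Scheme.Modules.pullback e.inv).mapIso a ≪≫
    (Scheme.Modules.pullbackComp e.inv e.hom).app _ ≪≫ (Scheme.Modules.pullbackCongr e.inv_hom_id).app _ ≪≫
    (Scheme.Modules.pullbackId _).app _⟩

include hI hc in
theorem nonempty_idealMod_iso :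
    Nonempty (ClSub.idealMod I ≅
      (Scheme.Modules.pushforward (line I e)).obj (Twist.twistProjSpace 1 k (-((g : ℤ) + 1)))) := by
  haveI : IsLocallyNoetherian C := LocallyOfFiniteType.isLocallyNoetherian (C ↘ Spec (CommRingCat.of k))
  haveI : Coh.IsQCoh (ClSub.idealMod I) := (Groth.L21.RR.isCoh_idealMod I).1
  have hk : ClSub.KilledByIdeal (line I e).ker (ClSub.idealMod I) := fun U a ha m => by
    refine Groth.L12.LineLift.killed_idealMod I hI U a ?_ m
    rw [Scheme.Hom.ker_apply, RingHom.mem_ker] at ha ⊢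
    haveI : IsIso (e.inv.app (I.subschemeι ⁻¹ᵁ U.1)) := inferInstance
    refine (ConcreteCategory.bijective_of_isIso (e.inv.app (I.subschemeι ⁻¹ᵁ U.1))).1 ?_
    exact ha.trans (map_zero _).symm
  haveI := Groth.L17.KilledUnit.isIso_of_killed (line I e) (ClSub.idealMod I) hk
  obtain ⟨b⟩ := nonempty_pullback_idealMod I e hc
  exact ⟨asIso ((Scheme.Modules.pullbackPushforwardAdjunction (line I e)).unit.app (ClSub.idealMod I)) ≪≫
    (Scheme.Modules.pushforward (line I e)).mapIso b⟩

variable {L : C.Modules} (hL : PicF.IsInvertible L) {m : ℤ}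
  (hm : Nonempty ((Scheme.Modules.pullback (line I e)).obj L ≅ Twist.twistProjSpace 1 k m))

include hL hm in
theorem nonempty_tensor_push (d : ℤ) :
    Nonempty (CohB1.tensorMod L ((Scheme.Modules.pushforward (line I e)).obj (Twist.twistProjSpace 1 k d)) ≅
      (Scheme.Modules.pushforward (line I e)).obj (Twist.twistProjSpace 1 k (m + d))) := by
  haveI := Groth.L17.ProjFormula.isIso_θ (line I e) L (Twist.twistProjSpace 1 k d)
    (Groth.L16.Existence.isFinLocFree_of_isInvertible hL)
  obtain ⟨a⟩ := hm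
  obtain ⟨b⟩ := Groth.L22.Reg.nonempty_O_add (n := 1) (R := k) (a := m) (b := d) rfl
  exact ⟨asIso (Groth.L17.ClosedPush.θ (line I e) (Twist.twistProjSpace 1 k d) L) ≪≫
    (Scheme.Modules.pushforward (line I e)).mapIso (tensorIso a (Iso.refl _) ≪≫ b)⟩

include hI hc hL hm in
theorem nonempty_sub_iso :
    Nonempty (CohB1.tensorMod L (ClSub.idealMod I) ≅
      (Scheme.Modules.pushforward (line I e)).obj (Twist.twistProjSpace 1 k (m + -((g : ℤ) + 1)))) := by
  obtain ⟨a⟩ := nonempty_idealMod_iso I hI e hc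
  obtain ⟨b⟩ := nonempty_tensor_push I e hL hm (-((g : ℤ) + 1))
  exact ⟨tensorIso (Iso.refl L) a ≪≫ b⟩

include hL hm in
theorem nonempty_quot_iso :
    Nonempty (CohB1.tensorMod L (ClSub.quotMod I) ≅
      (Scheme.Modules.pushforward (line I e)).obj (Twist.twistProjSpace 1 k m)) := by
  obtain ⟨a⟩ := nonempty_quotMod_iso I e
  obtain ⟨z⟩ := Groth.L22.Reg.nonempty_O_zero 1 k
  obtain ⟨b⟩ := nonempty_tensor_push I e hL hm 0
  exact ⟨tensorIso (Iso.refl L) (a ≪≫ (Scheme.Modules.pushforward (line I e)).mapIso z.symm) ≪≫ b ≪≫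
    (Scheme.Modules.pushforward (line I e)).mapIso (eqToIso (congrArg (Twist.twistProjSpace 1 k) (add_zero m)))⟩

include he in
theorem nonempty_hh_push (d : ℤ) (q : ℕ) :
    Nonempty (Coh.HH C ((Scheme.Modules.pushforward (line I e)).obj (Twist.twistProjSpace 1 k d)) q ≃ₗ[k]
      Coh.HH (CohB1.ProjSpace 1 k) (Twist.twistProjSpace 1 k d) q) := by
  haveI : C.IsSeparated :=
    ⟨by rw [← Limits.terminal.comp_from (C ↘ Spec (CommRingCat.of k))]; infer_instance⟩
  haveI := Groth.L16.ProjSpace.isProper_toSpec 1 k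
  haveI : IsLocallyNoetherian (CohB1.ProjSpace 1 k) :=
    LocallyOfFiniteType.isLocallyNoetherian (CohB1.ProjSpace.toSpec 1 k)
  obtain ⟨φ⟩ := Groth.L03.Euler.exists_HH_push_linearEquiv (k := k) (line I e) (Twist.twistProjSpace 1 k d)
    (Groth.L16.ProperFinite.isCoh_of_isInvertible (Groth.L16.ProjTwist.isInvertible_twistProjSpace 1 k d)).1
    (line_toSpec I e he) q
  exact ⟨φ.symm⟩

include he hI hc hL hm in
theorem sub_hh (q : ℕ) :
    Nonempty (Coh.HH C (CohB1.tensorMod L (ClSub.idealMod I)) q ≃ₗ[k]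
      Coh.HH (CohB1.ProjSpace 1 k) (Twist.twistProjSpace 1 k (m + -((g : ℤ) + 1))) q) := by
  obtain ⟨a⟩ := nonempty_sub_iso I hI e hc hL hm
  obtain ⟨φ⟩ := nonempty_hh_push I e he (m + -((g : ℤ) + 1)) q
  exact ⟨(hhEquiv k a q).trans φ⟩

include he hL hm in
theorem quot_hh (q : ℕ) :
    Nonempty (Coh.HH C (CohB1.tensorMod L (ClSub.quotMod I)) q ≃ₗ[k]
      Coh.HH (CohB1.ProjSpace 1 k) (Twist.twistProjSpace 1 k m) q) := by
  obtain ⟨a⟩ := nonempty_quot_iso I e hL hm
  obtain ⟨φ⟩ := nonempty_hh_push I e he m q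
  exact ⟨(hhEquiv k a q).trans φ⟩

include he hI hc hL hm in
theorem euler_eq : Curv2.euler k C L = 2 * m + 1 - g := by
  haveI := Groth.L21.RR.isNoetherian_of_proper (X := C) k
  haveI := Groth.L16.ProjSpace.isProper_toSpec 1 k
  haveI : IsProper ((CohB1.ProjSpace 1 k) ↘ Spec (CommRingCat.of k)) := by assumption
  have key : ∀ (M : C.Modules) (d : ℤ), (∀ q, Nonempty (Coh.HH C M q ≃ₗ[k]
      Coh.HH (CohB1.ProjSpace 1 k) (Twist.twistProjSpace 1 k d) q)) → Curv2.euler k C M = d + 1 := by
    intro M d h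
    have h2 := Groth.L22.Reg.euler_O (k := k) (n := 1) one_pos d
    refine Eq.trans ?_ (h2.trans (by simp))
    unfold Curv2.euler
    exact finsum_congr fun q => by rw [(h q).some.finrank_eq]
  have h1 := Groth.L03.Euler.euler_add (k := k) (shortExact_tw I hL) (Groth.L21.RR.isCoh_twist I hL)
    (Groth.L16.ProperFinite.isCoh_of_isInvertible hL) (Groth.L21.RR.isCoh_twistQuot I hL)
  refine h1.trans ?_
  rw [key _ _ (fun q => sub_hh I hI e he hc hL hm q), key _ _ (fun q => quot_hh I e he hL hm q)]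
  ring

include he hI hc hL hm in
theorem subsingleton_HH_ge_two {q : ℕ} (hq : 2 ≤ q) : Subsingleton (Coh.HH C L q) := by
  obtain ⟨a⟩ := sub_hh I hI e he hc hL hm q
  obtain ⟨b⟩ := quot_hh I e he hL hm q
  haveI := Groth.L16.ProjSpace.subsingleton_HH_twist 1 k (m + -((g : ℤ) + 1)) q (by omega) (by omega)
  haveI := Groth.L16.ProjSpace.subsingleton_HH_twist 1 k m q (by omega) (by omega)
  haveI := a.toEquiv.subsingleton
  haveI := b.toEquiv.subsingleton
  refine subsingleton_of_forall_eq 0 fun x => ?_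
  obtain ⟨y, rfl⟩ := (Groth.L16.CohLinear.exact_hmap_hmap (shortExact_tw I hL) q x).1 (Subsingleton.elim _ _)
  exact (congrArg _ (Subsingleton.elim y 0)).trans (map_zero _)

end Groth.L22.Ribbon
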