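import Groth.Agent.L22.Ribbon.Basic
import Groth.Agent.L22.Reg.ClosedQuot
import Groth.Agent.L03.InterLen.Main
import Groth.Agent.L08.Cube.Inverse
import Groth.Agent.L12.HypSq.Graph
import Groth.Agent.L16.ProjSpace.Dim

/-!
# The dualizing module of a ribbon over the projective line
-/

set_option autoImplicit false
set_option linter.style.haveILetI false
set_option linter.unusedSectionVars false
set_option backward.isDefEq.respectTransparency false
set_option backward.isDefEq.respectTransparency.types false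

universe u

open CategoryTheory CategoryTheory.Limits AlgebraicGeometry TopologicalSpace Opposite
open Groth.L00.Tensor (tensorIso tensorUnitRight tensorUnitLeft)
open Groth.L21.RR (st one twι twπ twι_twπ shortExact_tw)
open Groth.L16.CohLinear (overLin)

noncomputable section

namespace Groth.L22.Ribbon

/-- Surjectivity modulo a square-zero ideal gives surjectivity. -/
theorem epi_of_epi_twπ {X : Scheme.{u}} (I : X.IdealSheafData) (hI : I ^ 2 = ⊥) {P N : X.Modules}
    (hN : PicF.IsInvertible N) (v : P ⟶ N) [Epi (v ≫ twπ N I)] : Epi v := by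
  refine (Groth.L21.Mod.epi_iff_stalk_surjective v).2 fun x => ?_
  obtain ⟨e, he⟩ := Groth.L21.RR.exists_frame_stalk hN x
  obtain ⟨V, hV, hxV, -⟩ := exists_isAffineOpen_mem_and_subset (x := x) (U := ⊤) trivial
  obtain ⟨p, hp⟩ := (Groth.L21.Mod.epi_iff_stalk_surjective (v ≫ twπ N I)).1 inferInstance x (st (twπ N I) x e)
  have hcomp : ∀ {A B D : X.Modules} (f : A ⟶ B) (g : B ⟶ D) (y : A.presheaf.stalk x),
      st (f ≫ g) x y = st g x (st f x y) := fun f g y => congr($((Groth.L00.Stk.F X x).map_comp f g) y)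
  have hp' : st (twπ N I) x (st v x p) = st (twπ N I) x e := (hcomp v _ p).symm.trans hp
  have hex := (Groth.L21.Mod.exact_iff_stalk _).1 (shortExact_tw I hN).exact x
  rw [ShortComplex.ab_exact_iff_ker_le_range] at hex
  obtain ⟨w, hw⟩ := hex (show e - st v x p ∈ _ from (map_sub (st (twπ N I) x) _ _).trans (sub_eq_zero.2 hp'.symm))
  change st (twι N I) x w = e - st v x p at hw
  -- the image of the twisted ideal lies in the ideal times the stalk
  obtain ⟨r, hr, hrw⟩ := (Groth.L21.RR.range_st_idealModι I hV hxV _).1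
    ⟨Groth.L21.RR.tensorStalkEquiv (ClSub.idealMod I) he w, rfl⟩
  have hw' : st (((DCoh.tensorBi (X := X)).obj N).map (ClSub.idealModι I)) x w =
      r • (Groth.L21.RR.tensorStalkEquiv (Coh.structureModule X) he).symm (one X x) := by
    refine (Groth.L21.RR.tensorStalkEquiv (Coh.structureModule X) he).injective ?_
    rw [Groth.L21.RR.tensorStalkEquiv_natural, map_smul, LinearEquiv.apply_symm_apply]
    exact hrw.symm
  obtain ⟨c, hc⟩ := he.2 (st (tensorUnitRight N).hom x
    ((Groth.L21.RR.tensorStalkEquiv (Coh.structureModule X) he).symm (one X x)))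
  change c • e = _ at hc
  have hN' : st (twι N I) x w = (r * c) • e := by
    rw [twι, hcomp]
    erw [hw']
    rw [map_smul]
    exact (congrArg (r • ·) hc.symm).trans (smul_smul r c e)
  have hr2 : (r * c) * (r * c) = 0 := by
    have hmem : r * r ∈ ((I ^ 2).ideal ⟨V, hV⟩).map (X.presheaf.germ V x hxV).hom := by
      rw [Scheme.IdealSheafData.ideal_pow, Pi.pow_apply, Ideal.map_pow, pow_two]
      exact Ideal.mul_mem_mul hr hr
    rw [hI, Scheme.IdealSheafData.ideal_bot, Pi.bot_apply, Ideal.map_bot, Ideal.mem_bot] at hmem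
    rw [show (r * c) * (r * c) = (r * r) * (c * c) by ring, hmem, zero_mul]
  have hu : IsUnit (1 - r * c) :=
    IsUnit.of_mul_eq_one (1 + r * c) (by rw [show (1 - r * c) * (1 + r * c) = 1 - (r * c) * (r * c) by ring, hr2, sub_zero])
  intro y
  obtain ⟨a, rfl⟩ := he.2 y
  obtain ⟨u, hu'⟩ := hu
  refine ⟨(a * ↑u⁻¹) • (show P.presheaf.stalk x from p), ?_⟩
  change st v x ((a * ↑u⁻¹) • (show P.presheaf.stalk x from p)) = a • e
  have hve : st v x p = (u : X.presheaf.stalk x) • e := by
    rw [hu', sub_smul, one_smul, ← hN', hw, sub_sub_cancel]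
  rw [map_smul, hve, smul_smul, Units.inv_mul_cancel_right]

/-- A twist embeds in the direct image of its inverse image when functions do. -/
theorem exists_mono_unit {X Y : Scheme.{u}} (ρ : X ⟶ Y) [Mono (ClSub.unitToPush ρ)] {T : Y.Modules}
    (hT : PicF.IsInvertible T) :
    ∃ η : T ⟶ (Scheme.Modules.pushforward ρ).obj ((Scheme.Modules.pullback ρ).obj T), Mono η := by
  haveI := Groth.L17.ProjFormula.isIso_θ ρ T (Coh.structureModule X) (Groth.L16.Existence.isFinLocFree_of_isInvertible hT)
  haveI := Groth.L17.ChangeRings.preservesMono_tensorLeftF (Groth.L21.RR.isFlat_of_isInvertible hT)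
  haveI h1 : Mono ((Groth.L00.Tensor.tensorLeftF T).map (ClSub.unitToPush ρ)) := Functor.map_mono _ _
  haveI h2 : Mono ((Groth.L00.Tensor.tensorLeftF T).map (ClSub.unitToPush ρ) ≫
      Groth.L17.ClosedPush.θ ρ (Coh.structureModule X) T) :=
    @mono_comp _ _ _ _ _ _ h1 _ inferInstance
  refine ⟨(tensorUnitRight T).inv ≫ ((Groth.L00.Tensor.tensorLeftF T).map (ClSub.unitToPush ρ) ≫
      Groth.L17.ClosedPush.θ ρ (Coh.structureModule X) T) ≫
      (Scheme.Modules.pushforward ρ).map (tensorUnitRight ((Scheme.Modules.pullback ρ).obj T)).hom, ?_⟩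
  haveI h3 := @mono_comp _ _ _ _ _ _ h2 ((Scheme.Modules.pushforward ρ).map (tensorUnitRight ((Scheme.Modules.pullback ρ).obj T)).hom) inferInstance
  exact @mono_comp _ _ _ _ _ _ inferInstance _ h3

/-- Sections of a submodule of a direct image along an affine morphism are bounded by those upstairs. -/
theorem finrank_h0_le (k : Type u) [Field k] {X Y : Scheme.{u}} [X.Over (Spec (CommRingCat.of k))]
    [Y.Over (Spec (CommRingCat.of k))] (ρ : X ⟶ Y) [IsAffineHom ρ] [Y.IsSeparated]
    (hρ : ρ ≫ (Y ↘ Spec (CommRingCat.of k)) = X ↘ Spec (CommRingCat.of k)) {M : X.Modules} (hM : Coh.IsQCoh M)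
    {T : Y.Modules} (η : T ⟶ (Scheme.Modules.pushforward ρ).obj M) [Mono η]
    [Module.Finite k (Coh.HH X M 0)] :
    Module.finrank k (Coh.HH Y T 0) ≤ Module.finrank k (Coh.HH X M 0) := by
  have hS : (ShortComplex.mk η (cokernel.π η) (cokernel.condition η)).ShortExact :=
    { exact := ShortComplex.exact_cokernel η }
  obtain ⟨φ⟩ := Groth.L03.Euler.exists_HH_push_linearEquiv (k := k) ρ M hM hρ 0
  refine LinearMap.finrank_le_finrank_of_injective
    (f := φ.symm.toLinearMap ∘ₗ overLin k (Groth.L16.CohLinear.hmap η 0)) ?_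
  exact φ.symm.injective.comp (Groth.L03.Euler.injective_hmap_zero hS)

variable {k : Type u} [Field k] {C : Scheme.{u}} [C.Over (Spec (CommRingCat.of k))]
  [IsProper (C ↘ (Spec (CommRingCat.of k)))]
  (I : C.IdealSheafData) (hI : I ^ 2 = ⊥) (e : I.subscheme ≅ CohB1.ProjSpace 1 k)
  (he : e.hom ≫ CohB1.ProjSpace.toSpec 1 k = I.subschemeι ≫ (C ↘ (Spec (CommRingCat.of k))))
  {g : ℕ} (hc : Nonempty ((Scheme.Modules.pullback I.subschemeι).obj (ClSub.idealMod I) ≅
      (Scheme.Modules.pullback e.hom).obj (Twist.twistProjSpace 1 k (-((g : ℤ) + 1)))))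

theorem nonempty_pullback_structure : Nonempty ((Scheme.Modules.pullback (line I e)).obj (Coh.structureModule C) ≅
    Twist.twistProjSpace 1 k 0) := by
  obtain ⟨z⟩ := Groth.L22.Reg.nonempty_O_zero 1 k
  exact ⟨Groth.L29.LocFree.pullbackUnitIso _ ≪≫ z.symm⟩

include hI e in
theorem dim_le : topologicalKrullDim C ≤ 1 := by
  haveI := Groth.L12.LineLift.surjective_subschemeι I hI
  have hb : Function.Bijective (line I e) := by
    refine ⟨(line I e).isClosedEmbedding.injective, fun c => ?_⟩
    obtain ⟨d, hd⟩ := I.subschemeι.surjective c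
    exact ⟨e.hom d, by rw [← Scheme.Hom.comp_apply, e.hom_inv_id_assoc]; exact hd⟩
  have hh : IsHomeomorph (line I e).base :=
    isHomeomorph_iff_isEmbedding_surjective.2 ⟨(line I e).isEmbedding, hb.2⟩
  rw [← IsHomeomorph.topologicalKrullDim_eq _ hh, Groth.L16.ProjSpace.topologicalKrullDim_eq_of_field]
  norm_num

include he hI hc in
theorem toGlobal_bijective : Function.Bijective (Coh.toGlobal (C ↘ Spec (CommRingCat.of k))) := by
  have hfac : ∀ c : k, (line I e).appTop (Coh.toGlobal (C ↘ Spec (CommRingCat.of k)) c) =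
      Coh.toGlobal (CohB1.ProjSpace.toSpec 1 k) c := fun c => by
    show ((C ↘ Spec (CommRingCat.of k)).appTop ≫ (line I e).appTop) _ = _
    rw [← Scheme.Hom.comp_appTop, line_toSpec I e he]
    rfl
  refine ⟨fun a b h => Groth.L16.ProjSpace.toGlobal_bijective.1 (by rw [← hfac, ← hfac, h]), fun a => ?_⟩
  obtain ⟨c, hc'⟩ := (Groth.L16.ProjSpace.toGlobal_bijective (n := 1) (R := k)).2 ((line I e).appTop a)
  refine ⟨c, sub_eq_zero.1 ?_⟩
  let d := Coh.toGlobal (C ↘ Spec (CommRingCat.of k)) c - a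
  have hd : (line I e).appTop d = 0 := (map_sub _ _ _).trans (sub_eq_zero.2 ((hfac c).trans hc'))
  have hd' : I.subschemeι.app ⊤ d = 0 := by
    haveI : IsIso (e.inv.app (I.subschemeι ⁻¹ᵁ ⊤)) := inferInstance
    exact (ConcreteCategory.bijective_of_isIso (e.inv.app (I.subschemeι ⁻¹ᵁ ⊤))).1 (hd.trans (map_zero _).symm)
  obtain ⟨s, hs⟩ := (Groth.L12.LineLift.app_eq_zero_iff_io I ⊤ d).1 hd'
  obtain ⟨φ⟩ := sub_hh I hI e he hc (Groth.L18.Ample.isInvertible_structureModule C) (nonempty_pullback_structure I e) 0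
  haveI := Groth.L16.ProjSpace.subsingleton_HH_twist 1 k ((0 : ℤ) + -((g : ℤ) + 1)) 0 (by omega) (by omega)
  haveI := φ.toEquiv.subsingleton
  haveI : Subsingleton (Coh.HH C (ClSub.idealMod I) 0) :=
    (hhEquiv k (tensorUnitLeft (ClSub.idealMod I)).symm 0).toEquiv.subsingleton
  haveI : Subsingleton Γ(ClSub.idealMod I, ⊤) := (Groth.L16.HomSh.h0Equiv (ClSub.idealMod I)).symm.toEquiv.subsingleton
  show d = 0
  rw [← hs, Subsingleton.elim s 0, Groth.L12.LineLift.io_zero]

include hI he hc in
theorem h0_structure : Module.finrank k (Coh.HH C (Coh.structureModule C) 0) = 1 := by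
  have hb := toGlobal_bijective I hI e he hc
  obtain ⟨φ⟩ := quot_hh I e he (Groth.L18.Ample.isInvertible_structureModule C) (nonempty_pullback_structure I e) 0
  obtain ⟨ψ⟩ := sub_hh I hI e he hc (Groth.L18.Ample.isInvertible_structureModule C) (nonempty_pullback_structure I e) 0
  haveI := Groth.L16.ProjSpace.subsingleton_HH_twist 1 k ((0 : ℤ) + -((g : ℤ) + 1)) 0 (by omega) (by omega)
  haveI := ψ.toEquiv.subsingleton
  have h0 : (Module.finrank k (Coh.HH C (CohB1.tensorMod (Coh.structureModule C) (ClSub.quotMod I)) 0) : ℤ) = 1 := by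
    rw [φ.finrank_eq, line_h0 (by norm_num)]
    norm_num
  haveI : Module.Finite k (Coh.HH C (CohB1.tensorMod (Coh.structureModule C) (ClSub.quotMod I)) 0) :=
    Module.finite_of_finrank_pos (by omega)
  let f := overLin k (Groth.L16.CohLinear.hmap (twπ (Coh.structureModule C) I) 0)
  have hf : Function.Injective f := (injective_iff_map_eq_zero f).2 fun x hx => by
    obtain ⟨y, rfl⟩ := (Groth.L16.CohLinear.exact_hmap_hmap
      (shortExact_tw I (Groth.L18.Ample.isInvertible_structureModule C)) 0 x).1 hx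
    exact (congrArg _ (Subsingleton.elim y 0)).trans (map_zero _)
  have hle := LinearMap.finrank_le_finrank_of_injective hf
  haveI : Module.Finite k (Coh.HH C (Coh.structureModule C) 0) := Module.Finite.of_injective f hf
  haveI : Nontrivial (Coh.HH C (Coh.structureModule C) 0) := by
    haveI : Nontrivial Γ(Coh.structureModule C, ⊤) := show Nontrivial Γ(C, ⊤) from hb.1.nontrivial
    exact (Groth.L16.HomSh.h0Equiv (Coh.structureModule C)).toEquiv.nontrivial
  have := Module.finrank_pos (R := k) (M := Coh.HH C (Coh.structureModule C) 0)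
  omega

include hI he hc in
theorem h1_structure : Module.finrank k (Coh.HH C (Coh.structureModule C) 1) = g := by
  haveI := Groth.L21.RR.isNoetherian_of_proper (X := C) k
  have hS := Groth.L18.Ample.isInvertible_structureModule C
  have h := euler_eq I hI e he hc hS (nonempty_pullback_structure I e)
  rw [Groth.L03.Euler.euler_eq_sum (k := k) (N := 2) fun q hq =>
    subsingleton_HH_ge_two I hI e he hc hS (nonempty_pullback_structure I e) hq,
    Finset.sum_range_succ, Finset.sum_range_one, h0_structure I hI e he hc] at h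
  simp at h
  omega

include hI in
theorem exists_degree {L : C.Modules} (hL : PicF.IsInvertible L) :
    ∃ m : ℤ, Nonempty ((Scheme.Modules.pullback (line I e)).obj L ≅ Twist.twistProjSpace 1 k m) :=
  Groth.L20.PnPic.exists_iso_twist (n := 1) (R := k) _ (Groth.L18.Ample.isInvertible_pullback (line I e) hL)

section Dual

variable {ω : C.Modules} (hω : PicF.IsInvertible ω) {t : Coh.HH C ω 1 →ₗ[k] k}
  (ht : Canon.IsRDualOver k C 1 ω t)

include hI he hc hω ht in
theorem degree_dualizing {m : ℤ} (hm : Nonempty ((Scheme.Modules.pullback (line I e)).obj ω ≅ Twist.twistProjSpace 1 k m)) :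
    m = (g : ℤ) - 1 ∧ Module.finrank k (Coh.HH C ω 0) = g := by
  haveI := Groth.L21.RR.isNoetherian_of_proper (X := C) k
  have h0 : Module.finrank k (Coh.HH C ω 0) = g :=
    (Groth.L21.CurveDual.h0_eq ht).trans (h1_structure I hI e he hc)
  obtain ⟨N, -, ⟨a⟩⟩ := Groth.L08.Cube.exists_inverse hω
  have hqc : Coh.IsQCoh ω := (Groth.L16.ProperFinite.isCoh_of_isInvertible hω).1
  have hne : (𝟙 ω : ω ⟶ ω) ≠ 0 := fun h => by
    have hz : IsZero (CohB1.tensorMod ω N) :=
      (Groth.L00.Tensor.tensorRightF N).map_isZero ((IsZero.iff_id_eq_zero ω).2 h)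
    haveI := Groth.L03.Euler.subsingleton_HH_of_isZero (hz.of_iso a.symm) 0
    have := h0_structure I hI e he hc
    rw [Module.finrank_zero_of_subsingleton] at this
    omega
  have h1 : Module.finrank k (Coh.HH C ω 1) = 1 := by
    refine (Groth.L21.CurveDual.finrank_hom ht ω hqc).symm.trans ?_
    refine finrank_eq_one (𝟙 ω) hne fun φ => ?_
    obtain ⟨c, hc'⟩ := Groth.L03.VBPn.exists_eq_smul_id (toGlobal_bijective I hI e he hc) a φ
    exact ⟨c, hc'.symm⟩
  have h := euler_eq I hI e he hc hω hm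
  rw [Groth.L03.Euler.euler_eq_sum (k := k) (N := 2) fun q hq =>
    subsingleton_HH_ge_two I hI e he hc hω hm hq,
    Finset.sum_range_succ, Finset.sum_range_one, h0, h1] at h
  simp at h
  exact ⟨by omega, h0⟩

include hI he hc hω ht in
theorem isGloballyGenerated_dualizing (hg : 1 ≤ g) : Curv2.IsGloballyGenerated ω := by
  obtain ⟨m, hm⟩ := exists_degree I hI e hω
  obtain ⟨hmg, h0⟩ := degree_dualizing I hI e he hc hω ht hm
  obtain ⟨φ⟩ := quot_hh I e he hω hm 0
  obtain ⟨ψ⟩ := sub_hh I hI e he hc hω hm 0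
  haveI := Groth.L16.ProjSpace.subsingleton_HH_twist 1 k (m + -((g : ℤ) + 1)) 0 (by omega) (by omega)
  haveI := ψ.toEquiv.subsingleton
  have hq : Module.finrank k (Coh.HH C (CohB1.tensorMod ω (ClSub.quotMod I)) 0) = g := by
    have h := line_h0 (k := k) (d := m) (by omega)
    rw [← φ.finrank_eq] at h
    omega
  haveI : Module.Finite k (Coh.HH C ω 0) := Module.finite_of_finrank_pos (by omega)
  haveI : Module.Finite k (Coh.HH C (CohB1.tensorMod ω (ClSub.quotMod I)) 0) := Module.finite_of_finrank_pos (by omega)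
  let f := overLin k (Groth.L16.CohLinear.hmap (twπ ω I) 0)
  have hf : Function.Injective f := (injective_iff_map_eq_zero f).2 fun x hx => by
    obtain ⟨y, rfl⟩ := (Groth.L16.CohLinear.exact_hmap_hmap (shortExact_tw I hω) 0 x).1 hx
    exact (congrArg _ (Subsingleton.elim y 0)).trans (map_zero _)
  have hsurj : Function.Surjective f :=
    (LinearMap.injective_iff_surjective_of_finrank_eq_finrank (by rw [h0, hq])).1 hf
  have hsec : Function.Surjective ((twπ ω I).app ⊤) := fun s => by
    obtain ⟨x, hx⟩ := hsurj ((Groth.L16.HomSh.h0Equiv _).symm s)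
    refine ⟨Groth.L16.HomSh.h0Equiv ω x, (Groth.L16.HomSh.h0Equiv_map (twπ ω I) x).symm.trans ?_⟩
    exact (congrArg (Groth.L16.HomSh.h0Equiv _) hx).trans ((Groth.L16.HomSh.h0Equiv _).apply_symm_apply s)
  obtain ⟨a⟩ := nonempty_quot_iso I e hω hm
  obtain ⟨ι, p, hp⟩ := Groth.L18.Ample.isGloballyGenerated_of_iso a.symm
    (Groth.L16.Exist.Adic.isGloballyGenerated_push (line I e) (line_gg (k := k) (d := m) (by omega)))
  let p' : (∐ fun _ : ι => Coh.structureModule C) ⟶ CohB1.tensorMod ω (ClSub.quotMod I) := p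
  haveI : Epi p' := hp
  choose s hs using fun i => hsec ((Sigma.ι (fun _ : ι => Coh.structureModule C) i ≫ p').app ⊤ (Groth.L21.RR.oneSec C))
  let v : (∐ fun _ : ι => Coh.structureModule C) ⟶ ω := Sigma.desc fun i => Groth.L16.homOfSection ω (s i)
  have hv : v ≫ twπ ω I = p' := Sigma.hom_ext _ _ fun i => by
    rw [Sigma.ι_desc_assoc]
    refine Groth.L21.RR.hom_ext_one ?_
    show (twπ ω I).app ⊤ ((Groth.L16.homOfSection ω (s i)).app ⊤ (Groth.L21.RR.oneSec C)) = _
    rw [Groth.L21.RR.app_homOfSection_one, hs]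
  haveI : Epi (v ≫ twπ ω I) := by rw [hv]; infer_instance
  exact ⟨ι, v, epi_of_epi_twπ I hI hω v⟩

variable (r : C ⟶ I.subscheme) (hr : I.subschemeι ≫ r = 𝟙 I.subscheme)
  (hrk : r ≫ I.subschemeι ≫ (C ↘ (Spec (CommRingCat.of k))) = C ↘ (Spec (CommRingCat.of k)))

include hI hr e in
/-- The retraction is affine, being bijective and separated. -/
theorem isAffineHom_retraction : IsAffineHom r := by
  haveI := Groth.L12.LineLift.surjective_subschemeι I hI
  haveI : IsAffineHom (I.subschemeι ≫ r) := by rw [hr]; infer_instance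
  exact Groth.L20.ThickAffine.isAffineHom_of_comp I.subschemeι I.subschemeι.surjective r

include hr in
theorem pullback_line_pullback (d : ℤ) :
    Nonempty ((Scheme.Modules.pullback (line I e)).obj ((Scheme.Modules.pullback (r ≫ e.hom)).obj (Twist.twistProjSpace 1 k d)) ≅
      Twist.twistProjSpace 1 k d) := by
  have hρ : line I e ≫ (r ≫ e.hom) = 𝟙 _ := by simp only [line, Category.assoc, reassoc_of% hr, Iso.inv_hom_id]
  exact ⟨(Scheme.Modules.pullbackComp (line I e) (r ≫ e.hom)).app _ ≪≫ (Scheme.Modules.pullbackCongr hρ).app _ ≪≫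
    (Scheme.Modules.pullbackId _).app _⟩

include hI he hc hr hrk in
/-- The twist pulled back by the retraction has first cohomology. -/
theorem nontrivial_h1_pullback (hg : 2 ≤ g) :
    ¬ Subsingleton (Coh.HH C ((Scheme.Modules.pullback (r ≫ e.hom)).obj (Twist.twistProjSpace 1 k ((g : ℤ) - 1))) 1) := by
  haveI := Groth.L21.RR.isNoetherian_of_proper (X := C) k
  letI : (CohB1.ProjSpace 1 k).Over (Spec (CommRingCat.of k)) := ⟨CohB1.ProjSpace.toSpec 1 k⟩
  haveI : IsProper ((CohB1.ProjSpace 1 k) ↘ Spec (CommRingCat.of k)) := Groth.L16.ProjSpace.isProper_toSpec 1 k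
  haveI : (CohB1.ProjSpace 1 k).IsSeparated :=
    ⟨by rw [← Limits.terminal.comp_from ((CohB1.ProjSpace 1 k) ↘ Spec (CommRingCat.of k))]; infer_instance⟩
  haveI := isAffineHom_retraction I hI e r hr
  let ρ : C ⟶ CohB1.ProjSpace 1 k := r ≫ e.hom
  let T := Twist.twistProjSpace 1 k ((g : ℤ) - 1)
  let M := (Scheme.Modules.pullback ρ).obj T
  have hT := Groth.L16.ProjTwist.isInvertible_twistProjSpace 1 k ((g : ℤ) - 1)
  have hM : PicF.IsInvertible M := Groth.L18.Ample.isInvertible_pullback ρ hT
  have hρ : line I e ≫ ρ = 𝟙 _ := by simp only [ρ, line, Category.assoc, reassoc_of% hr, Iso.inv_hom_id]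
  have hρk : ρ ≫ CohB1.ProjSpace.toSpec 1 k = C ↘ Spec (CommRingCat.of k) := by
    simp only [ρ, Category.assoc, he, hrk]
  have hMm := pullback_line_pullback I e r hr ((g : ℤ) - 1)
  -- sections of the twist pull back
  haveI hsplit : Mono (ClSub.unitToPush ρ) := by
    have h := Groth.L12.HypSq.unitToPush_comp (line I e) ρ
    haveI : IsIso (ClSub.unitToPush (line I e ≫ ρ)) := by
      rw [hρ]; exact Groth.L12.HypSq.isIso_unitToPush _
    exact mono_of_mono_fac h
  obtain ⟨η, hη⟩ := exists_mono_unit ρ hT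
  haveI hMq : Coh.IsQCoh M := (Groth.L16.ProperFinite.isCoh_of_isInvertible hM).1
  have hg0 : (Module.finrank k (Coh.HH (CohB1.ProjSpace 1 k) T 0) : ℤ) = (g : ℤ) - 1 + 1 :=
    line_h0 (k := k) (d := (g : ℤ) - 1) (by omega)
  haveI : Module.Finite k (Coh.HH C M 0) :=
    Groth.L21.RR.finite_HH' k (Groth.L16.ProperFinite.isCoh_of_isInvertible hM) 0
  haveI : IsAffineHom ρ := inferInstanceAs (IsAffineHom (r ≫ e.hom))
  have hle : Module.finrank k (Coh.HH (CohB1.ProjSpace 1 k) T 0) ≤ Module.finrank k (Coh.HH C M 0) :=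
    finrank_h0_le k ρ hρk hMq η
  have hE := euler_eq I hI e he hc hM hMm
  rw [Groth.L03.Euler.euler_eq_sum (k := k) (N := 2) fun q hq =>
    subsingleton_HH_ge_two I hI e he hc hM hMm hq, Finset.sum_range_succ, Finset.sum_range_one] at hE
  simp at hE
  intro h
  have := Module.finrank_zero_of_subsingleton (R := k) (M := Coh.HH C M 1)
  omega

include hI he hc hω in
/-- A nonzero map to an invertible module of degree `g - 1` from another one is an isomorphism. -/
theorem isIso_of_ne_zero {M : C.Modules} (hM : PicF.IsInvertible M)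
    (hMm : Nonempty ((Scheme.Modules.pullback (line I e)).obj M ≅ Twist.twistProjSpace 1 k ((g : ℤ) - 1)))
    (hm : Nonempty ((Scheme.Modules.pullback (line I e)).obj ω ≅ Twist.twistProjSpace 1 k ((g : ℤ) - 1)))
    (v : M ⟶ ω) (hv : v ≠ 0) : IsIso v := by
  haveI := Groth.L21.RR.isNoetherian_of_proper (X := C) k
  letI : (CohB1.ProjSpace 1 k).Over (Spec (CommRingCat.of k)) := ⟨CohB1.ProjSpace.toSpec 1 k⟩
  haveI : IsProper ((CohB1.ProjSpace 1 k) ↘ Spec (CommRingCat.of k)) := Groth.L16.ProjSpace.isProper_toSpec 1 k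
  have hT := Groth.L16.ProjTwist.isInvertible_twistProjSpace 1 k ((g : ℤ) - 1)
  haveI hMq : Coh.IsQCoh M := (Groth.L16.ProperFinite.isCoh_of_isInvertible hM).1
  let j := line I e
  let P := Scheme.Modules.pullback j
  let adj := Scheme.Modules.pullbackPushforwardAdjunction j
  obtain ⟨a⟩ := nonempty_quot_iso I e hω hm
  let x := (adj.homEquiv _ _).symm (twπ ω I ≫ a.hom)
  have hfac : twπ ω I ≫ a.hom = adj.unit.app ω ≫ (Scheme.Modules.pushforward j).map x := by
    exact (Equiv.apply_symm_apply (adj.homEquiv _ _) _).symm.trans (adj.homEquiv_unit _ _ _)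
  have hnat : ∀ {A : C.Modules} (w : A ⟶ ω),
      w ≫ twπ ω I ≫ a.hom = adj.unit.app A ≫ (Scheme.Modules.pushforward j).map (P.map w) ≫
        (Scheme.Modules.pushforward j).map x := fun w => by
    rw [hfac, ← Category.assoc]
    exact (congrArg (· ≫ (Scheme.Modules.pushforward j).map x) (adj.unit.naturality w)).trans (Category.assoc _ _ _)
  obtain ⟨c, hc0⟩ : ∃ c : k, (hMm.some.inv ≫ P.map v ≫ hm.some.hom) = c • 𝟙 _ := by
    obtain ⟨N, -, ⟨i⟩⟩ := Groth.L08.Cube.exists_inverse hT
    exact Groth.L03.VBPn.exists_eq_smul_id (k := k) (X := CohB1.ProjSpace 1 k) Groth.L16.ProjSpace.toGlobal_bijective i _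
  by_cases hcz : c = 0
  · exfalso
    apply hv
    have hPv : P.map v = 0 := by
      rw [hcz, zero_smul] at hc0
      rw [← cancel_epi hMm.some.inv, ← cancel_mono hm.some.hom, comp_zero, zero_comp, Category.assoc, hc0]
    have h0 : v ≫ twπ ω I = 0 := by
      rw [← cancel_mono a.hom, zero_comp, Category.assoc, hnat, hPv, Functor.map_zero, zero_comp, comp_zero]
    have hex := shortExact_tw I hω
    haveI : Mono (twι ω I) := hex.mono_f
    obtain ⟨b⟩ := nonempty_sub_iso I hI e hc hω hm
    let w := hex.exact.lift v h0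
    have hw : w = 0 := by
      rw [← cancel_mono b.hom, zero_comp]
      refine (adj.homEquiv _ _).symm.injective ?_
      rw [Adjunction.homEquiv_counit, Adjunction.homEquiv_counit, Functor.map_zero, zero_comp,
        ← cancel_epi hMm.some.inv, comp_zero]
      exact line_hom_zero (by omega) _
    exact (hex.exact.lift_f v h0).symm.trans ((congrArg (· ≫ twι ω I) hw).trans zero_comp)
  · haveI : IsIso (c • 𝟙 (Twist.twistProjSpace 1 k ((g : ℤ) - 1))) :=
      ⟨c⁻¹ • 𝟙 _, by simp [smul_smul, hcz], by simp [smul_smul, hcz]⟩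
    haveI : IsIso (P.map v) := by
      have : P.map v = hMm.some.hom ≫ (c • 𝟙 _) ≫ hm.some.inv := by rw [← hc0]; simp
      rw [this]; infer_instance
    haveI := Groth.L22.Reg.epi_unit j M
    haveI : Epi ((Scheme.Modules.pushforward j).map x) := by
      haveI := (shortExact_tw I hω).epi_g
      haveI : Epi (adj.unit.app ω ≫ (Scheme.Modules.pushforward j).map x) := by rw [← hfac]; exact epi_comp _ _
      exact epi_of_epi (adj.unit.app ω) _
    haveI : Epi (v ≫ twπ ω I) := by
      haveI : Epi (v ≫ twπ ω I ≫ a.hom) := by rw [hnat]; exact epi_comp _ _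
      rw [show v ≫ twπ ω I = (v ≫ twπ ω I ≫ a.hom) ≫ a.inv by simp]
      exact epi_comp _ _
    haveI := epi_of_epi_twπ I hI hω v
    haveI := Groth.L03.InterLen.isIso_of_epi_invertible v hM hω
    infer_instance

include hI he hc hω ht hr hrk in
theorem iso_pullback_dualizing (hg : 2 ≤ g) :
    Nonempty (ω ≅ (Scheme.Modules.pullback (r ≫ e.hom)).obj (Twist.twistProjSpace 1 k ((g : ℤ) - 1))) := by
  haveI := Groth.L21.RR.isNoetherian_of_proper (X := C) k
  have hM := Groth.L18.Ample.isInvertible_pullback (r ≫ e.hom)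
    (Groth.L16.ProjTwist.isInvertible_twistProjSpace 1 k ((g : ℤ) - 1))
  obtain ⟨m, hm⟩ := exists_degree I hI e hω
  obtain ⟨rfl, -⟩ := degree_dualizing I hI e he hc hω ht hm
  obtain ⟨v, hv⟩ := Groth.L21.CurveDual.exists_ne_zero_of_h1 ht
    (Groth.L16.ProperFinite.isCoh_of_isInvertible hM).1 (nontrivial_h1_pullback I hI e he hc r hr hrk hg)
  haveI := isIso_of_ne_zero I hI e he hc hω hM (pullback_line_pullback I e r hr _) hm v hv
  exact ⟨(asIso v).symm⟩

end Dual

end Groth.L22.Ribbon
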